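import Cfsg.Agent.Lib.Spor.HN.CommWord.Part0
import Cfsg.Agent.Lib.Spor.HN.CommWord.Part1

/-!
The commutator of `y` and the central word lies in ⟨x, y³⟩: the assembled checks.
-/

set_option autoImplicit false

namespace CfsgLib.Spor.HN.CommWord

open CfsgLib.Spor.TC

theorem steps_ok : cert.SStepsOK 0 13119 :=
  (((steps0.append _ steps3812).append _ steps7681).append _ steps11338)

set_option maxRecDepth 100000 in
theorem trace0 : cert.sTraceOK 13119 [2, 1, 2, 2, 1, 3, 1, 3, 1, 2, 2, 0, 3, 3, 0, 2, 0, 2, 0, 3, 3, 3, 2, 2, 1, 3, 1, 3, 1, 2, 2, 1, 3, 3, 0, 2, 0, 2, 0, 3, 3, 0] 0x100004000060667e0004d0004b00049000470004500043000410003f0003d0003b000390003700035000330003006652066510002f0002d0002b00029000270002500023000210001f0001d0001b00019000170001500013000110000f0000d0000b0000900003 = true := by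
  decide +kernel

end CfsgLib.Spor.HN.CommWord
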